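import Groth.Agent.Lib.QuasiCompl6.Unip
import Groth.Agent.S3277
import Groth.Agent.S7952
import Groth.Prelude.Def_SGA3b
import Groth.Prelude.Def_ComodSub
import Mathlib

/-!
# Semisimple and unipotent parts of a point, relative to the irreducible component of `1`
-/

set_option autoImplicit false
set_option linter.style.haveILetI false
set_option linter.unusedSectionVars false
universe u

open TensorProduct WithConv
open Groth.Agent.Lib Groth.Agent.Lib.Hopf.Irred Groth.Agent.Lib.Hopf.IrredBaseChange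

namespace Groth.Agent.Lib.QuasiCompl6

noncomputable section

variable {k : Type u} [Field k] {A : Type u} [CommRing A] [HopfAlgebra k A] [Coalgebra.IsCocomm k A]

theorem eq_zero_of_pow_apply {L V : Type u} [Field L] [AddCommGroup V] [Module L V] {f : Module.End L V}
    (hf : f.IsSemisimple) (n : ℕ) (v : V) (hv : (f ^ n) v = 0) : f v = 0 := by
  have hU : LinearMap.ker (f ^ n) ∈ f.invtSubmodule := fun x hx => by
    simp only [Submodule.mem_comap, LinearMap.mem_ker] at hx ⊢
    rw [← Module.End.mul_apply, ← (Commute.self_pow f n).eq, Module.End.mul_apply, hx, map_zero]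
  have hU' : ∀ x ∈ LinearMap.ker (f ^ n), f x ∈ LinearMap.ker (f ^ n) := hU
  have h0 : LinearMap.restrict f hU' = 0 := Module.End.eq_zero_of_isNilpotent_isSemisimple
    ⟨n, LinearMap.ext fun x => Subtype.ext (by rw [Module.End.pow_restrict]; exact x.2)⟩ (hf.restrict hU)
  exact congrArg Subtype.val (LinearMap.congr_fun h0 ⟨v, LinearMap.mem_ker.2 hv⟩)

section Pre

variable {K : Type u} [CommRing K] [Algebra k K] {H : Type u} [CommRing H] [Bialgebra K H] [Algebra k H]
  [IsScalarTower k K H] {F : Type u} [CommRing F] [Algebra K F] [Algebra k F] [IsScalarTower k K F]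

/-- Restriction of functionals along a semilinear bialgebra map. -/
def pre (f : A →ₐ[k] H) (hf : Compat K f) : WithConv (H →ₗ[K] F) →+* WithConv (A →ₗ[k] F) where
  toFun y := toConv ((y.ofConv.restrictScalars k) ∘ₗ f.toLinearMap)
  map_one' := by
    ext a
    show algebraMap K F (CoalgebraStruct.counit (R := K) (f a)) = algebraMap k F _
    rw [hf.2, ← IsScalarTower.algebraMap_apply]
  map_mul' y z := by
    ext a
    show (y * z) (f a) = (toConv (y.ofConv.restrictScalars k ∘ₗ f.toLinearMap) *
      toConv (z.ofConv.restrictScalars k ∘ₗ f.toLinearMap)) a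
    rw [LinearMap.convMul_apply, LinearMap.convMul_apply, hf.1]
    generalize CoalgebraStruct.comul (R := k) a = w
    induction w using TensorProduct.induction_on with
    | zero => simp
    | tmul a b => simp
    | add a b ha hb => simp only [map_add, ha, hb]
  map_zero' := by ext a; simp
  map_add' y z := by ext a; simp

@[simp] theorem pre_apply (f : A →ₐ[k] H) (hf : Compat K f) (y : WithConv (H →ₗ[K] F)) (a : A) :
    pre f hf y a = y (f a) := rfl

theorem pre_X (f : A →ₐ[k] H) (hf : Compat K f) (y : H →ₐ[K] F) :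
    pre f hf (toConv y.toLinearMap - 1) = X (toConv ((y.restrictScalars k).comp f)) := by
  rw [X, map_sub, map_one]
  rfl

end Pre

variable (W : Submodule k A)
  (hW : ∀ w ∈ W, CoalgebraStruct.comul (R := k) w ∈ LinearMap.range (W.subtype.rTensor A))

/-- A point of a group of multiplicative type that is unipotent is the unit. -/
theorem eq_counit_of_unip {C : Type u} [CommRing C] [HopfAlgebra k C] (hC : SGA3b.IsMultTypeConst k C)
    {L : Type u} [Field L] [Algebra k L] (hgen : Algebra.adjoin k (W : Set A) = ⊤)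
    (φ : A →ₐc[k] C) (y : C →ₐ[k] L) (hu : Unip W hW (toConv (y.comp (φ : A →ₐ[k] C)))) :
    y.comp (φ : A →ₐ[k] C) = (1 : WithConv (A →ₐ[k] L)).ofConv := by
  classical
  obtain ⟨K, _, _, hff, M, _, ⟨e⟩⟩ := hC
  haveI := hff
  haveI : Nontrivial (K ⊗[k] L) := Module.FaithfullyFlat.lTensor_nontrivial k K L
  obtain ⟨m, hm⟩ := Ideal.exists_maximal (K ⊗[k] L)
  let F := (K ⊗[k] L) ⧸ m
  letI : Field F := Ideal.Quotient.field m
  let ι : L →ₐ[k] F := (Ideal.Quotient.mkₐ k m).comp Algebra.TensorProduct.includeRight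
  let y' : MonoidAlgebra K M →ₐ[K] F :=
    (Algebra.TensorProduct.lift (Algebra.ofId K F) (ι.comp y) fun _ _ => Commute.all _ _).comp
      (e.symm : MonoidAlgebra K M →ₐc[K] K ⊗[k] C).toAlgHom
  let f : A →ₐ[k] MonoidAlgebra K M :=
    (((e : K ⊗[k] C →ₐc[K] MonoidAlgebra K M) : K ⊗[k] C →ₐ[K] MonoidAlgebra K M).restrictScalars k).comp
      (Algebra.TensorProduct.includeRight.comp (φ : A →ₐ[k] C))
  have hf : Compat K f := (compat_includeRight.comp_left φ).comp_bialgHom _
  have hy : (y'.restrictScalars k).comp f = ι.comp (y.comp (φ : A →ₐ[k] C)) := by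
    ext a
    simp [y', f]
  obtain ⟨n, hn⟩ := (unip_iff W hW _).1 hu
  have hn' : ∀ z : WithConv (A →ₗ[k] F), ∀ w ∈ W,
      (z * X (toConv (ι.comp (y.comp (φ : A →ₐ[k] C)))) ^ n) w = 0 := fun z =>
    (ann (R := F) W hW).mul_mem_left z (show _ ∈ ann W hW from fun w hw => by
      have h1 : post ι (X (toConv (y.comp (φ : A →ₐ[k] C))) ^ n) =
          X (toConv (ι.comp (y.comp (φ : A →ₐ[k] C)))) ^ n := by
        rw [map_pow, post_X]
      rw [← h1, post_apply, hn w hw, map_zero])
  let b := MonoidAlgebra.basis M K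
  have hbg : ∀ g, CoalgebraStruct.comul (R := K) (b g) = b g ⊗ₜ[K] b g := fun g => by simp [b]
  have hε : ∀ g, CoalgebraStruct.counit (R := K) (b g) = 1 := fun g => by simp [b]
  have hmul : ∀ (p q : WithConv (MonoidAlgebra K M →ₗ[K] F)) g, (p * q) (b g) = p (b g) * q (b g) := fun p q g => by
    rw [LinearMap.convMul_apply, hbg, TensorProduct.map_tmul, LinearMap.mul'_apply]
  have hpow : ∀ (i : ℕ) g, ((toConv y'.toLinearMap - 1) ^ i) (b g) = (y' (b g) - 1) ^ i := by
    intro i g
    induction i with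
    | zero => simp [hε]
    | succ i ih => rw [pow_succ, pow_succ, hmul, ih]; simp [hε]
  refine AlgHom.ext_of_adjoin_eq_top hgen fun w hw => ι.toRingHom.injective ?_
  have hfw : ∀ g, algebraMap K F (b.coord g (f w)) * y' (b g) = algebraMap K F (b.coord g (f w)) := by
    intro g
    let δ : WithConv (MonoidAlgebra K M →ₗ[K] F) := toConv ((Algebra.linearMap K F) ∘ₗ b.coord g)
    have hδ : δ * (toConv y'.toLinearMap - 1) ^ n = toConv ((y' (b g) - 1) ^ n • δ.ofConv) := by
      apply ofConv_injective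
      refine b.ext fun h => ?_
      show (δ * _) (b h) = _
      rw [hmul, hpow]
      by_cases hgh : h = g
      · subst hgh; simp [δ, mul_comm]
      · simp [δ, Ne.symm hgh, hgh]
    have h2 := hn' (pre f hf δ) w hw
    rw [← hy, ← pre_X f hf, ← map_pow, ← map_mul, hδ] at h2
    simp only [pre_apply, LinearMap.smul_apply, smul_eq_mul, mul_eq_zero, pow_eq_zero_iff', ne_eq] at h2
    rcases h2 with ⟨h3, -⟩ | h3
    · rw [sub_eq_zero.1 h3, mul_one]
    · have h4 : algebraMap K F (b.coord g (f w)) = 0 := h3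
      rw [h4, zero_mul]
  show ι ((y.comp (φ : A →ₐ[k] C)) w) = ι (algebraMap k L _)
  rw [AlgHom.commutes, ← AlgHom.comp_apply ι, ← hy]
  show _ = algebraMap k F (CoalgebraStruct.counit (R := k) w)
  rw [IsScalarTower.algebraMap_apply k K F, ← hf.2 w]
  show y' (f w) = _
  conv_lhs => rw [← b.linearCombination_repr (f w), Finsupp.linearCombination_apply, Finsupp.sum, map_sum]
  conv_rhs => rw [← b.linearCombination_repr (f w), Finsupp.linearCombination_apply, Finsupp.sum, map_sum, map_sum]
  refine Finset.sum_congr rfl fun g _ => ?_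
  rw [map_smul, map_smul, Algebra.smul_def, smul_eq_mul, hε, mul_one]
  exact hfw g

section Jordan

variable {L : Type u} [Field L] [Algebra k L]

/-- Translation by a functional. -/
def T (y : L ⊗[k] A →ₗ[L] L) : L ⊗[k] A →ₗ[L] L ⊗[k] A :=
  (TensorProduct.rid L (L ⊗[k] A)).toLinearMap ∘ₗ y.lTensor (L ⊗[k] A) ∘ₗ
    CoalgebraStruct.comul (R := L) (A := L ⊗[k] A)

theorem counit_T (y : L ⊗[k] A →ₗ[L] L) (b : L ⊗[k] A) (z : WithConv (L ⊗[k] A →ₗ[L] L)) :
    z (T y b) = (z * toConv y) b := by
  rw [LinearMap.convMul_apply]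
  show z (TensorProduct.rid L _ (y.lTensor (L ⊗[k] A) (CoalgebraStruct.comul b))) = _
  generalize CoalgebraStruct.comul (R := L) b = w
  induction w using TensorProduct.induction_on with
  | zero => simp
  | tmul a c => simp [mul_comm]
  | add a c ha hc => simp only [map_add, ha, hc]

theorem pow_T (y : L ⊗[k] A →ₗ[L] L) : ∀ (i : ℕ) (z : WithConv (L ⊗[k] A →ₗ[L] L)) (b : L ⊗[k] A),
    z ((T y ^ i) b) = (z * toConv y ^ i) b
  | 0, z, b => by simp
  | i + 1, z, b => by
    rw [pow_succ, Module.End.mul_apply, pow_T y i z, counit_T, pow_succ, mul_assoc]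

theorem T_one_sub (g : L ⊗[k] A →ₐ[L] L) (b : L ⊗[k] A) :
    T (toConv g.toLinearMap - 1 : WithConv (L ⊗[k] A →ₗ[L] L)).ofConv b = T g.toLinearMap b - b := by
  have h := LinearMap.congr_fun (Coalgebra.lTensor_counit_comp_comul (R := L) (A := L ⊗[k] A)) b
  simp only [LinearMap.comp_apply, LinearMap.flip_apply, TensorProduct.mk_apply] at h
  show TensorProduct.rid L _ (LinearMap.lTensor _ (g.toLinearMap - (Algebra.linearMap L L ∘ₗ _)) _) = _
  rw [LinearMap.lTensor_sub, LinearMap.sub_apply, map_sub]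
  congr 1
  rw [show (Algebra.linearMap L L : L →ₗ[L] L) = LinearMap.id from LinearMap.ext fun _ => rfl, LinearMap.id_comp, h]
  simp

theorem pow_T_irred (g : L ⊗[k] A →ₐ[L] L) : ∀ {m : ℕ} {a : A}, a ∈ F k A m →
    (T (toConv g.toLinearMap - 1 : WithConv (L ⊗[k] A →ₗ[L] L)).ofConv ^ (m + 1)) (1 ⊗ₜ[k] a) = 0
  | 0, a, ha => by
    obtain ⟨c, rfl⟩ := Submodule.mem_span_singleton.1 ha
    have h1 : T (toConv g.toLinearMap - 1 : WithConv (L ⊗[k] A →ₗ[L] L)).ofConv 1 = 0 := by
      rw [T_one_sub, sub_eq_zero]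
      show TensorProduct.rid L _ (g.toLinearMap.lTensor _ (CoalgebraStruct.comul (1 : L ⊗[k] A))) = 1
      rw [Bialgebra.comul_one, Algebra.TensorProduct.one_def (A := L ⊗[k] A), LinearMap.lTensor_tmul]
      simp
    rw [TensorProduct.tmul_smul, ← Algebra.TensorProduct.one_def, pow_one,
      ← IsScalarTower.algebraMap_smul L c (1 : L ⊗[k] A), map_smul, h1, smul_zero]
  | m + 1, a, ha => by
    obtain ⟨z, hz⟩ := mem_succ.1 ha
    rw [pow_succ, Module.End.mul_apply]
    let x := (toConv g.toLinearMap - 1 : WithConv (L ⊗[k] A →ₗ[L] L)).ofConv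
    have hx1 : x 1 = 0 := by simp [x]
    have hd := (compat_includeRight (k := k) (A := A) (K := L)).1 a
    have : T x (1 ⊗ₜ[k] a) = TensorProduct.rid L _ (x.lTensor (L ⊗[k] A)
        (m2 (K := L) Algebra.TensorProduct.includeRight ((F k A m).subtype.rTensor A z))) := by
      rw [hz, map_sub, map_sub, map_sub, ← hd, m2_tmul]
      simp only [LinearMap.lTensor_tmul, map_one, hx1, TensorProduct.tmul_zero, map_zero, sub_zero]
      rfl
    show (T x ^ (m + 1)) (T x (1 ⊗ₜ[k] a)) = 0
    rw [this]
    clear this hd hz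
    induction z using TensorProduct.induction_on with
    | zero => simp
    | tmul p q =>
      simp only [LinearMap.rTensor_tmul, Submodule.subtype_apply, m2_tmul, Algebra.TensorProduct.includeRight_apply,
        LinearMap.lTensor_tmul, TensorProduct.rid_tmul, map_smul]
      rw [pow_T_irred g p.2, smul_zero]
    | add p q hp hq => simp only [map_add, hp, hq, add_zero]

theorem exists_jordan [IsAlgClosed L] [Algebra.FiniteType k A] [FiniteDimensional k W] (g : WithConv (A →ₐ[k] L)) :
    ∃ s u : WithConv (A →ₐ[k] L), s * u = g ∧ Unip W hW u ∧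
      ∀ a ∈ irred k A, s.ofConv a = algebraMap k L (CoalgebraStruct.counit (R := k) a) := by
  classical
  let gB : L ⊗[k] A →ₐ[L] L := Algebra.TensorProduct.lift (AlgHom.id L L) g.ofConv fun _ _ => Commute.all _ _
  obtain ⟨gs, gu, ⟨hsu, -, hss⟩, -⟩ := Groth.Agent.S3277.result L (L ⊗[k] A) gB
  let res : (L ⊗[k] A →ₐ[L] L) → WithConv (A →ₐ[k] L) := fun y =>
    toConv ((y.restrictScalars k).comp Algebra.TensorProduct.includeRight)
  have hf := compat_includeRight (k := k) (A := A) (K := L)
  refine ⟨res gs, res gu, ?_, ?_, ?_⟩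
  · apply ofConv_injective
    refine AlgHom.ext fun a => ?_
    have h1 : (pre _ hf (toConv gs.toLinearMap) * pre _ hf (toConv gu.toLinearMap)) a = gB (1 ⊗ₜ[k] a) := by
      rw [← map_mul, pre_apply, ← AlgHom.toLinearMap_convMul, hsu]
      rfl
    refine Eq.trans ?_ (h1.trans (by simp [gB]))
    rfl
  · have key : ∀ w : A, ∃ N : ℕ, ∀ N', N ≤ N' → (X (res gu) ^ N') w = 0 := fun w => by
      obtain ⟨V, hVf, hwV, hV⟩ := Groth.Agent.S7952.result L (L ⊗[k] A) (L ⊗[k] A) (1 ⊗ₜ[k] w)
      haveI := hVf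
      letI c := ComodSub.Comod.restr (HopfRep.Comod.regular L (L ⊗[k] A)) V hV
      obtain ⟨N, hN⟩ := (hss V hVf).2
      refine ⟨N, ?_⟩
      have hT : ∀ v : V, (((HopfRep.Comod.act L (L ⊗[k] A) V gu - 1) v : V) : L ⊗[k] A) =
          T (toConv gu.toLinearMap - 1 : WithConv (L ⊗[k] A →ₗ[L] L)).ofConv v := fun v => by
        rw [T_one_sub]
        show _ = TensorProduct.rid L _ (gu.toLinearMap.lTensor _ ((HopfRep.Comod.regular L (L ⊗[k] A)).coact (v : L ⊗[k] A))) - _
        rw [← ComodSub.restr_coact_coe (HopfRep.Comod.regular L (L ⊗[k] A)) V hV v]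
        simp only [LinearMap.sub_apply, Module.End.one_apply, AddSubgroupClass.coe_sub, HopfRep.Comod.act,
          LinearMap.comp_apply, LinearEquiv.coe_coe]
        congr 1
        generalize c.coact v = z
        induction z using TensorProduct.induction_on with
        | zero => simp
        | tmul p q => simp
        | add p q hp hq => simp only [map_add, Submodule.coe_add, hp, hq]
      have hTN : ∀ (i : ℕ) (v : V), ((((HopfRep.Comod.act L (L ⊗[k] A) V gu - 1) ^ i) v : V) : L ⊗[k] A) =
          (T (toConv gu.toLinearMap - 1 : WithConv (L ⊗[k] A →ₗ[L] L)).ofConv ^ i) v := by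
        intro i
        induction i with
        | zero => intro v; simp
        | succ i ih =>
          intro v
          rw [pow_succ', pow_succ', Module.End.mul_apply, Module.End.mul_apply, hT, ih]
      intro N' hN'
      have h2 := hTN N' ⟨_, hwV⟩
      rw [pow_eq_zero_of_le hN' hN] at h2
      have h3 := pow_T (toConv gu.toLinearMap - 1 : WithConv (L ⊗[k] A →ₗ[L] L)).ofConv N' 1 (1 ⊗ₜ[k] w)
      rw [← h2, one_mul, toConv_ofConv] at h3
      rw [← pre_X _ hf gu, ← map_pow, pre_apply]
      refine h3.symm.trans ?_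
      simp
    rw [unip_iff]
    obtain ⟨s, hs⟩ := IsNoetherian.noetherian (⊤ : Submodule k W)
    choose N hN using key
    refine ⟨s.sup fun v => N v, fun w hw => ?_⟩
    have : (⊤ : Submodule k W) ≤ LinearMap.ker ((X (res gu) ^ s.sup fun v => N v).ofConv ∘ₗ W.subtype) := by
      rw [← hs, Submodule.span_le]
      exact fun v hv => hN v _ (Finset.le_sup (f := fun v : W => N v) hv)
    exact this (x := ⟨w, hw⟩) trivial
  · intro a ha
    obtain ⟨m, hm⟩ := mem_irred.1 ha
    obtain ⟨V, hVf, hwV, hV⟩ := Groth.Agent.S7952.result L (L ⊗[k] A) (L ⊗[k] A) (1 ⊗ₜ[k] a)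
    haveI := hVf
    letI c := ComodSub.Comod.restr (HopfRep.Comod.regular L (L ⊗[k] A)) V hV
    let D : Module.End L V := HopfRep.Comod.act L (L ⊗[k] A) V gs - 1
    have hT : ∀ v : V, ((D v : V) : L ⊗[k] A) =
        T (toConv gs.toLinearMap - 1 : WithConv (L ⊗[k] A →ₗ[L] L)).ofConv v := fun v => by
      rw [T_one_sub]
      show _ = TensorProduct.rid L _ (gs.toLinearMap.lTensor _ ((HopfRep.Comod.regular L (L ⊗[k] A)).coact (v : L ⊗[k] A))) - _
      rw [← ComodSub.restr_coact_coe (HopfRep.Comod.regular L (L ⊗[k] A)) V hV v]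
      simp only [D, LinearMap.sub_apply, Module.End.one_apply, AddSubgroupClass.coe_sub, HopfRep.Comod.act,
        LinearMap.comp_apply, LinearEquiv.coe_coe]
      congr 1
      generalize c.coact v = z
      induction z using TensorProduct.induction_on with
      | zero => simp
      | tmul p q => simp
      | add p q hp hq => simp only [map_add, Submodule.coe_add, hp, hq]
    have hTN : ∀ (i : ℕ) (v : V), (((D ^ i) v : V) : L ⊗[k] A) =
        (T (toConv gs.toLinearMap - 1 : WithConv (L ⊗[k] A →ₗ[L] L)).ofConv ^ i) v := by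
      intro i
      induction i with
      | zero => intro v; simp
      | succ i ih =>
        intro v
        rw [pow_succ', pow_succ', Module.End.mul_apply, Module.End.mul_apply, hT, ih]
    have hD : D.IsSemisimple := by
      have := (hss V hVf).1
      simpa [D, Algebra.algebraMap_eq_smul_one] using (Module.End.isSemisimple_sub_algebraMap_iff (μ := (1 : L))).2 this
    have h1 : D ⟨_, hwV⟩ = 0 := eq_zero_of_pow_apply hD (m + 1) _
      (Subtype.ext (by rw [hTN]; exact pow_T_irred gs hm))
    have h2 : T (toConv gs.toLinearMap - 1 : WithConv (L ⊗[k] A →ₗ[L] L)).ofConv (1 ⊗ₜ[k] a) = 0 := by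
      rw [← hT ⟨_, hwV⟩]; exact congrArg Subtype.val h1
    have h3 := congrArg (fun z => (1 : WithConv (L ⊗[k] A →ₗ[L] L)) z) h2
    rw [counit_T, one_mul] at h3
    simp only [map_zero] at h3
    show gs (1 ⊗ₜ[k] a) = _
    simpa [sub_eq_zero, Algebra.algebraMap_eq_smul_one] using h3

end Jordan

end

end Groth.Agent.Lib.QuasiCompl6
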