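import Groth.Agent.Lib.QuasiCompl6.Jordan
import Groth.Agent.Lib.MultExact6.Core
import Groth.Agent.Lib.WittU.Criteria
import Groth.Agent.Lib.StrongConn6.Basic

/-!
# Scheme-theoretic glue for the quasi-complement
-/

set_option autoImplicit false
set_option linter.style.haveILetI false
set_option backward.isDefEq.respectTransparency false
universe u

open CategoryTheory MonoidalCategory CartesianMonoidalCategory MonObj AlgebraicGeometry

namespace Groth.Agent.Lib.QuasiCompl6

noncomputable section

variable {k : Type u} [Field k]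

/-- A field valued point through a given point, with algebraically closed field of values. -/
theorem exists_point (G : Over (Spec (CommRingCat.of k))) (y : G.left) :
    ∃ (T : Over (Spec (CommRingCat.of k))) (x : T ⟶ G) (t : T.left),
      x.left.base t = y ∧ ∃ hF : IsField Γ(T.left, ⊤),
        letI := hF.toField
        IsAlgClosed Γ(T.left, ⊤) := by
  let F := AlgebraicClosure (G.left.residueField y)
  let q : Spec (CommRingCat.of F) ⟶ G.left :=
    Spec.map (CommRingCat.ofHom (algebraMap (G.left.residueField y) F)) ≫ G.left.fromSpecResidueField y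
  let T : Over (Spec (CommRingCat.of k)) := Over.mk (q ≫ G.hom)
  let e : F ≃+* Γ(T.left, ⊤) := ((Scheme.ΓSpecIso (CommRingCat.of F)).symm.commRingCatIsoToRingEquiv)
  refine ⟨T, Over.homMk q rfl, (⟨⊥, Ideal.isPrime_bot⟩ : PrimeSpectrum F), ?_, ?_⟩
  · have : Set.range (G.left.fromSpecResidueField y).base = {y} := G.left.range_fromSpecResidueField y
    exact this.le ⟨_, rfl⟩
  · have hF : IsField Γ(T.left, ⊤) := MulEquiv.isField (Field.toIsField F) e.symm.toMulEquiv
    exact ⟨hF, letI := hF.toField; IsAlgClosed.of_ringEquiv F Γ(T.left, ⊤) e⟩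

/-- An affine scheme of finite type over a field with at most one point is finite. -/
theorem isFinite_of_subsingleton {X : Over (Spec (CommRingCat.of k))} [IsAffine X.left]
    [LocallyOfFiniteType X.hom] [Subsingleton X.left] : IsFinite X.hom := by
  have h1 : X.hom.appTop.hom.FiniteType :=
    (HasRingHomProperty.iff_of_isAffine (P := @LocallyOfFiniteType)).mp inferInstance
  rw [HasAffineProperty.iff_of_isAffine (P := @IsFinite)]
  refine ⟨inferInstance, ?_⟩
  let : Algebra k Γ(X.left, ⊤) := (WittU.Pts.scal X).toAlgebra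
  have h2 : (WittU.Pts.scal X).FiniteType :=
    h1.comp (RingHom.FiniteType.of_surjective _ (WittU.Pts.baseEquiv (k := k)).symm.surjective)
  have : Algebra.FiniteType k Γ(X.left, ⊤) := h2
  have hnoeth : IsNoetherianRing Γ(X.left, ⊤) := Algebra.FiniteType.isNoetherianRing k _
  have : Subsingleton (Spec Γ(X.left, ⊤)) := (Scheme.homeoOfIso X.left.isoSpec).symm.injective.subsingleton
  have : IsArtinianRing Γ(X.left, ⊤) := by
    rw [isArtinianRing_iff_isNoetherianRing_krullDimLE_zero]
    exact ⟨hnoeth, Ring.KrullDimLE.mk₀ fun I hI =>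
      PrimeSpectrum.isClosed_singleton_iff_isMaximal (⟨I, hI⟩ : PrimeSpectrum Γ(X.left, ⊤)) |>.mp
        (by
          haveI : Subsingleton (PrimeSpectrum Γ(X.left, ⊤)) := ‹Subsingleton (Spec Γ(X.left, ⊤))›
          exact (Set.subsingleton_of_subsingleton (s := {(⟨I, hI⟩ : PrimeSpectrum Γ(X.left, ⊤))})).isClosed)⟩
  have : Module.Finite k Γ(X.left, ⊤) := Module.finite_of_isArtinianRing k _
  have h3 : (WittU.Pts.scal X).Finite := this
  exact RingHom.Finite.of_comp_finite (f := (WittU.Pts.baseEquiv (k := k)).symm.toRingHom) h3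

/-- Generators lie in a finite-dimensional right coideal. -/
theorem exists_coideal (A : Type u) [CommRing A] [HopfAlgebra k A] [Algebra.FiniteType k A] :
    ∃ W : Submodule k A, FiniteDimensional k W ∧ Algebra.adjoin k (W : Set A) = ⊤ ∧
      ∀ w ∈ W, CoalgebraStruct.comul (R := k) w ∈ LinearMap.range (W.subtype.rTensor A) := by
  classical
  obtain ⟨s, hs⟩ := (inferInstance : Algebra.FiniteType k A).out
  choose V hVf hV hVc using fun a : A => Groth.Agent.S7952.result k A A a
  refine ⟨⨆ a : s, V a, inferInstance, ?_, fun w hw => ?_⟩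
  · rw [← top_le_iff, ← hs]
    exact Algebra.adjoin_mono fun a ha => Submodule.mem_iSup_of_mem (⟨a, ha⟩ : s) (hV a)
  · refine Submodule.iSup_induction _ (motive := fun w => CoalgebraStruct.comul (R := k) w ∈ _) hw
      (fun a x hx => ?_) (by simp) (fun x y hx hy => by rw [map_add]; exact add_mem hx hy)
    obtain ⟨z, hz⟩ := hVc a x hx
    refine ⟨(Submodule.inclusion (le_iSup (fun a : s => V a) a)).rTensor A z, ?_⟩
    rw [← LinearMap.comp_apply, ← LinearMap.rTensor_comp]
    exact hz

end

end Groth.Agent.Lib.QuasiCompl6
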