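import Groth.Agent.H52.FBase.GeomRed
import Groth.Agent.Lib.Hopf.IrredBaseChange
import Mathlib

/-!
# Unipotent points relative to a finite-dimensional right coideal
-/

set_option autoImplicit false
set_option linter.style.haveILetI false
universe u

open TensorProduct WithConv
open Groth.Agent.Lib Groth.Agent.Lib.Hopf.IrredBaseChange

namespace Groth.Agent.Lib.QuasiCompl6

noncomputable section

variable {k : Type u} [Field k] {A : Type u} [CommRing A] [HopfAlgebra k A] [Coalgebra.IsCocomm k A]

set_option linter.unusedSectionVars false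

variable {R S : Type u} [CommRing R] [Algebra k R] [CommRing S] [Algebra k S]

/-- A point minus the unit, in the convolution ring. -/
def X (g : WithConv (A →ₐ[k] R)) : WithConv (A →ₗ[k] R) := toConv g.ofConv.toLinearMap - 1

/-- Composition with an algebra map. -/
def post (f : R →ₐ[k] S) : WithConv (A →ₗ[k] R) →+* WithConv (A →ₗ[k] S) where
  toFun y := toConv (f.toLinearMap ∘ₗ y.ofConv)
  map_one' := by ext a; simp
  map_mul' y z := by
    apply ofConv_injective
    exact LinearMap.algHom_comp_convMul_distrib f y z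
  map_zero' := by ext a; simp
  map_add' y z := by ext a; simp

@[simp] theorem post_apply (f : R →ₐ[k] S) (y : WithConv (A →ₗ[k] R)) (a : A) : post f y a = f (y a) := rfl

theorem post_X (f : R →ₐ[k] S) (g : WithConv (A →ₐ[k] R)) :
    post f (X g) = X (toConv (f.comp g.ofConv)) := by
  rw [X, X, map_sub, map_one]
  rfl

variable (W : Submodule k A)
  (hW : ∀ w ∈ W, CoalgebraStruct.comul (R := k) w ∈ LinearMap.range (W.subtype.rTensor A))

/-- Functionals vanishing on a right coideal. -/
def ann : Ideal (WithConv (A →ₗ[k] R)) where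
  carrier := {y | ∀ w ∈ W, y w = 0}
  zero_mem' := fun w _ => rfl
  add_mem' := fun {y z} hy hz w hw => by simp [hy w hw, hz w hw]
  smul_mem' z y hy w hw := by
    rw [smul_eq_mul, mul_comm, LinearMap.convMul_apply]
    obtain ⟨p, hp⟩ := hW w hw
    rw [← hp]
    clear hp
    induction p using TensorProduct.induction_on with
    | zero => simp
    | tmul v a => simp [hy v v.2]
    | add p q hp hq => rw [map_add, map_add, map_add, hp, hq, add_zero]

/-- Unipotent on the coideal. -/
def Unip (g : WithConv (A →ₐ[k] R)) : Prop := IsNilpotent (Ideal.Quotient.mk (ann W hW) (X g))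

theorem unip_iff (g : WithConv (A →ₐ[k] R)) : Unip W hW g ↔ ∃ n : ℕ, ∀ w ∈ W, (X g ^ n) w = 0 := by
  refine exists_congr fun n => ?_
  rw [← map_pow, Ideal.Quotient.eq_zero_iff_mem]
  rfl

theorem unip_one : Unip W hW (1 : WithConv (A →ₐ[k] R)) := by
  rw [unip_iff]
  refine ⟨1, fun w _ => ?_⟩
  rw [pow_one, X]
  simp

theorem unip_mul {g h : WithConv (A →ₐ[k] R)} (hg : Unip W hW g) (hh : Unip W hW h) :
    Unip W hW (g * h) := by
  have e : X (g * h) = X g * X h + X g + X h := by
    have : toConv ((g * h).ofConv.toLinearMap) = toConv g.ofConv.toLinearMap * toConv h.ofConv.toLinearMap :=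
      AlgHom.toLinearMap_convMul g h
    rw [X, X, X, this]
    ring
  rw [Unip, e, map_add, map_add, map_mul]
  exact Commute.isNilpotent_add (Commute.all _ _)
    (Commute.isNilpotent_add (Commute.all _ _) (Commute.isNilpotent_mul_right (Commute.all _ _) hg) hg) hh

theorem unip_of_mul_eq_one {g h : WithConv (A →ₐ[k] R)} (hg : Unip W hW g) (e : g * h = 1) :
    Unip W hW h := by
  have e' : toConv g.ofConv.toLinearMap * toConv h.ofConv.toLinearMap = 1 := by
    rw [← AlgHom.toLinearMap_convMul, e]; rfl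
  have : X h = -(toConv h.ofConv.toLinearMap) * X g := by
    rw [X, X, neg_mul, mul_sub, mul_one, mul_comm, e']
    ring
  rw [Unip, this, map_mul]
  exact Commute.isNilpotent_mul_left (Commute.all _ _) hg

/-- The bound on the order of nilpotency. -/
theorem pow_mem_of_unip {L : Type u} [Field L] [Algebra k L] [FiniteDimensional k W] {g : WithConv (A →ₐ[k] L)}
    (hg : Unip W hW g) {n : ℕ} (hn : Module.finrank k W ≤ n) : ∀ w ∈ W, (X g ^ n) w = 0 := by
  obtain ⟨p, hp⟩ := W.subtype.exists_leftInverse_of_injective W.ker_subtype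
  have hpw : ∀ v : W, p v = v := fun v => LinearMap.congr_fun hp v
  let T : (W →ₗ[k] L) →ₗ[L] (W →ₗ[k] L) :=
    { toFun := fun y => (toConv (y ∘ₗ p) * X g).ofConv ∘ₗ W.subtype
      map_add' := fun y z => by
        rw [LinearMap.add_comp, WithConv.toConv_add, add_mul]
        rfl
      map_smul' := fun c y => LinearMap.ext fun w => by
        simp only [LinearMap.comp_apply, LinearMap.smul_apply, RingHom.id_apply, smul_eq_mul]
        show (toConv ((c • y) ∘ₗ p) * X g) (w : A) = c * (toConv (y ∘ₗ p) * X g) (w : A)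
        rw [LinearMap.convMul_apply, LinearMap.convMul_apply]
        generalize CoalgebraStruct.comul (R := k) (w : A) = z
        induction z using TensorProduct.induction_on with
        | zero => simp
        | tmul a b => simp [mul_assoc]
        | add z z' h h' => simp only [map_add, mul_add, h, h'] }
  have key : ∀ y : WithConv (A →ₗ[k] L), T (y.ofConv ∘ₗ W.subtype) = (y * X g).ofConv ∘ₗ W.subtype := by
    intro y
    refine LinearMap.ext fun w => ?_
    show (toConv ((y.ofConv ∘ₗ W.subtype) ∘ₗ p) * X g) (w : A) = (y * X g) (w : A)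
    rw [LinearMap.convMul_apply, LinearMap.convMul_apply]
    obtain ⟨z, hz⟩ := hW w w.2
    rw [← hz]
    clear hz
    induction z using TensorProduct.induction_on with
    | zero => simp
    | tmul a b => simp [hpw]
    | add z z' h h' => simp only [map_add, h, h']
  have hpow : ∀ (i : ℕ) (y : WithConv (A →ₗ[k] L)),
      (T ^ i) (y.ofConv ∘ₗ W.subtype) = (y * X g ^ i).ofConv ∘ₗ W.subtype := by
    intro i
    induction i with
    | zero => intro y; simp
    | succ i ih => intro y; rw [pow_succ, Module.End.mul_apply, key, ih, pow_succ', mul_assoc]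
  obtain ⟨N, hN⟩ := (unip_iff W hW g).1 hg
  have hT : T ^ N = 0 := LinearMap.ext fun y => by
    have : y = (toConv (y ∘ₗ p)).ofConv ∘ₗ W.subtype := LinearMap.ext fun v => by simp [hpw]
    rw [this, hpow, LinearMap.zero_apply]
    exact LinearMap.ext fun v => (ann (R := L) W hW).mul_mem_left _ (show X g ^ N ∈ ann W hW from hN) v v.2
  have hfin : Module.finrank L (W →ₗ[k] L) ≤ n := by rw [Module.finrank_linearMap_self]; exact hn
  have h0 : T ^ n = 0 := by
    have h1 : T ^ Module.finrank L (W →ₗ[k] L) = 0 := by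
      have := Module.End.ker_pow_le_ker_pow_finrank (f := T) N
      rw [hT, LinearMap.ker_zero, top_le_iff] at this
      exact LinearMap.ker_eq_top.1 this
    exact pow_eq_zero_of_le hfin h1
  intro w hw
  have := LinearMap.congr_fun (hpow n 1) ⟨w, hw⟩
  rw [h0, one_mul] at this
  exact this.symm

variable (k A) in
/-- The universal `(g - ε) ^ n`. -/
def Q (n : ℕ) : WithConv (A →ₗ[k] A) := (toConv LinearMap.id - 1) ^ n

theorem apply_Q (g : WithConv (A →ₐ[k] R)) (n : ℕ) (a : A) : g.ofConv (Q k A n a) = (X g ^ n) a := by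
  rw [← post_apply g.ofConv (Q k A n) a, Q, map_pow, map_sub, map_one]
  rfl

/-- The equations of the unipotent points. -/
def Z (n : ℕ) : Ideal A := Ideal.span ((fun w => Q k A n w) '' (W : Set A))

theorem Z_le_ker_iff (g : WithConv (A →ₐ[k] R)) (n : ℕ) :
    Z W n ≤ RingHom.ker g.ofConv ↔ ∀ w ∈ W, (X g ^ n) w = 0 := by
  rw [Z, Ideal.span_le]
  simp only [Set.image_subset_iff]
  exact forall₂_congr fun w _ => by rw [← apply_Q]; rfl

theorem antipode_conv (f : A →ₐ[k] R) :
    toConv (f.comp (HopfAlgebra.antipodeAlgHom k A)) * toConv f = (1 : WithConv (A →ₐ[k] R)) := by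
  refine (WithConv.toConv_injective.comp <| AlgHom.toLinearMap_injective.comp WithConv.ofConv_injective) ?_
  simp only [Function.comp_apply]
  rw [AlgHom.toLinearMap_convMul, AlgHom.toLinearMap_convOne]
  refine Eq.trans ?_ (map_one (post f))
  rw [← LinearMap.antipode_mul_id (R := k) (C := A), map_mul]
  rfl

theorem eq_zero_of_forall_points (L : Type u) [Field L] [IsAlgClosed L] [Algebra k L]
    (P : Type u) [CommRing P] [Algebra k P] [Algebra.FiniteType k P] [IsReduced P] {z : P}
    (h : ∀ φ : P →ₐ[k] L, φ z = 0) : z = 0 := by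
  have : IsJacobsonRing P := isJacobsonRing_of_finiteType (A := k) (B := P)
  have hrad : (⊥ : Ideal P).jacobson = ⊥ :=
    IsJacobsonRing.out' _ ((Ideal.isRadical_bot_iff).2 inferInstance)
  rw [← Ideal.mem_bot, ← hrad, Ideal.jacobson, Ideal.mem_sInf]
  rintro m ⟨-, hm⟩
  letI : Field (P ⧸ m) := Ideal.Quotient.field m
  haveI : Module.Finite k (P ⧸ m) := finite_of_finite_type_of_isJacobsonRing k (P ⧸ m)
  have h1 := h ((IsAlgClosed.lift : P ⧸ m →ₐ[k] L).comp (Ideal.Quotient.mkₐ k m))
  rw [AlgHom.comp_apply, map_eq_zero] at h1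
  exact Ideal.Quotient.eq_zero_iff_mem.1 h1

/-- A Hopf ideal whose points are the unipotent points. -/
theorem exists_hopfIdeal [Algebra.FiniteType k A]
    [FiniteDimensional k W] (hgen : Algebra.adjoin k (W : Set A) = ⊤) :
    ∃ J : Ideal A, J.IsHopfIdeal k ∧
      ∀ (F : Type u) [Field F] [Algebra k F] (g : WithConv (A →ₐ[k] F)), J ≤ RingHom.ker g.ofConv ↔ Unip W hW g := by
  have hle : ∀ n, Module.finrank k W ≤ n → ∀ (F : Type u) [Field F] [Algebra k F] (g : WithConv (A →ₐ[k] F)),
      Z W n ≤ RingHom.ker g.ofConv ↔ Unip W hW g := fun n hn F _ _ g => by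
    rw [Z_le_ker_iff]
    exact ⟨fun h => (unip_iff W hW g).2 ⟨n, h⟩, fun h => pow_mem_of_unip W hW h hn⟩
  obtain ⟨p, hp⟩ := CharP.exists k
  rcases CharP.char_is_prime_or_zero k p with hpp | rfl
  · haveI := Fact.mk hpp
    obtain ⟨m, hm⟩ : ∃ m, Module.finrank k W ≤ p ^ m :=
      ⟨_, (Nat.lt_pow_self hpp.one_lt).le⟩
    let φ : A →ₐc[k] A := ((toConv (BialgHom.id k A)) ^ p ^ m).ofConv
    have hφ : toConv (φ : A →ₐ[k] A).toLinearMap = (toConv LinearMap.id) ^ p ^ m :=
      BialgHom.toLinearMap_convPow _ _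
    haveI : Nontrivial (WithConv (A →ₗ[k] A)) := by
      haveI : Nontrivial A := (Bialgebra.algebraMap_injective (R := k) A).nontrivial
      refine ⟨⟨1, 0, fun h => one_ne_zero (α := A) ?_⟩⟩
      simpa using congrArg (fun y : WithConv (A →ₗ[k] A) => y 1) h
    haveI : CharP (WithConv (A →ₗ[k] A)) p :=
      charP_of_injective_algebraMap (algebraMap k (WithConv (A →ₗ[k] A))).injective p
    have hQ : ∀ w, Q k A (p ^ m) w = φ w - algebraMap k A (CoalgebraStruct.counit (R := k) w) := fun w => by
      rw [Q, sub_pow_char_pow, one_pow, ← hφ]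
      simp
    refine ⟨Z W (p ^ m), ?_, hle _ hm⟩
    let mk := Ideal.Quotient.mkₐ k (Z W (p ^ m))
    have hmkφ : mk.comp (φ : A →ₐ[k] A) = (1 : WithConv (A →ₐ[k] _)).ofConv :=
      AlgHom.ext_of_adjoin_eq_top hgen fun w hw => by
        show mk (φ w) = algebraMap k _ (CoalgebraStruct.counit (R := k) w)
        rw [← AlgHom.commutes mk, ← sub_eq_zero, ← map_sub]
        exact Ideal.Quotient.eq_zero_iff_mem.2 (Ideal.subset_span ⟨w, hw, hQ w⟩)
    have h1 : ∀ a, mk (φ a) = algebraMap k _ (CoalgebraStruct.counit (R := k) a) :=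
      fun a => AlgHom.congr_fun hmkφ a
    have hall : ∀ {B : Type u} [CommRing B] [Algebra k B] (f : A →ₐ[k] B),
        (∀ w ∈ W, f (φ w) = algebraMap k B (CoalgebraStruct.counit (R := k) w)) →
        ∀ x ∈ Z W (p ^ m), f x = 0 := by
      intro B _ _ f hf x hx
      refine (show Z W (p ^ m) ≤ RingHom.ker f from Ideal.span_le.2 ?_) hx
      rintro _ ⟨w, hw, rfl⟩
      show f (Q k A (p ^ m) w) = 0
      rw [hQ, map_sub, AlgHom.commutes, hf w hw, sub_self]
    rw [Ideal.isHopfIdeal_iff, Submodule.isCoideal_iff]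
    refine ⟨⟨fun x hx => ?_, fun x hx => ?_⟩, fun x hx => ?_⟩
    · exact hall (Bialgebra.counitAlgHom k A) (fun w _ => CoalgHomClass.counit_comp_apply φ w) x hx
    · refine hall ((Algebra.TensorProduct.map mk mk).comp (Bialgebra.comulAlgHom k A)) (fun w _ => ?_) x hx
      have h2 : (Algebra.TensorProduct.map mk mk).comp (Bialgebra.comulAlgHom k A) =
          (toConv (Algebra.TensorProduct.includeLeft.comp mk) *
            toConv (Algebra.TensorProduct.includeRight.comp mk) : WithConv (A →ₐ[k] _)).ofConv := by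
        refine AlgHom.ext fun a => ?_
        rw [AlgHom.convMul_apply]
        show Algebra.TensorProduct.map mk mk (CoalgebraStruct.comul (R := k) a) = _
        congr 1
        ext <;> simp
      show ((Algebra.TensorProduct.map mk mk).comp (Bialgebra.comulAlgHom k A)).comp (φ : A →ₐ[k] A) w = _
      rw [h2, AlgHom.convMul_comp_bialgHom_distrib, ofConv_toConv, ofConv_toConv, AlgHom.comp_assoc,
        AlgHom.comp_assoc, hmkφ]
      have h3 : ∀ {B : Type u} [CommRing B] [Algebra k B] (i : A ⧸ Z W (p ^ m) →ₐ[k] B),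
          toConv (i.comp (1 : WithConv (A →ₐ[k] A ⧸ Z W (p ^ m))).ofConv) = 1 := fun i => by
        apply ofConv_injective
        ext a
        exact i.commutes _
      rw [h3, h3]
      exact DFunLike.congr_fun (congrArg WithConv.ofConv (one_mul (1 : WithConv (A →ₐ[k] (A ⧸ Z W (p ^ m)) ⊗[k] (A ⧸ Z W (p ^ m)))))) w
    · refine Ideal.Quotient.eq_zero_iff_mem.1 (hall (mk.comp (HopfAlgebra.antipodeAlgHom k A)) (fun w _ => ?_) x hx)
      have h4 := congrArg (fun f : A →ₐ[k] A ⧸ Z W (p ^ m) => f.comp (φ : A →ₐ[k] A))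
        (congrArg WithConv.ofConv (antipode_conv mk))
      simp only [AlgHom.convMul_comp_bialgHom_distrib, hmkφ, toConv_ofConv] at h4
      erw [mul_one] at h4
      have h5 := DFunLike.congr_fun h4 w
      refine h5.trans ?_
      show algebraMap k _ (CoalgebraStruct.counit (R := k) (φ w)) = _
      rw [CoalgHomClass.counit_comp_apply φ w]
  · haveI : CharZero k := CharP.charP_to_charZero k
    let J := (Z W (Module.finrank k W)).radical
    have hJ : ∀ (F : Type u) [Field F] [Algebra k F] (g : WithConv (A →ₐ[k] F)),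
        J ≤ RingHom.ker g.ofConv ↔ Unip W hW g := fun F _ _ g => by
      rw [← hle _ le_rfl F g]
      exact ⟨fun h => Ideal.le_radical.trans h, fun h => (RingHom.ker_isPrime g.ofConv).radical_le_iff.2 h⟩
    refine ⟨J, ?_, hJ⟩
    let mk := Ideal.Quotient.mkₐ k J
    let L := AlgebraicClosure k
    haveI hred : IsReduced (A ⧸ J) :=
      (Ideal.isRadical_iff_quotient_reduced _).1 (Ideal.radical_isRadical _)
    haveI : Algebra.IsGeometricallyReduced k (A ⧸ J) := H52.FBase.GeomRed.isGeometricallyReduced_of_perfectField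
    haveI : IsReduced ((A ⧸ J) ⊗[k] (A ⧸ J)) := H52.FBase.GeomRed.isReduced_tensor
    haveI : Algebra.FiniteType k (A ⧸ J) :=
      Algebra.FiniteType.of_surjective mk Ideal.Quotient.mk_surjective
    have hpt : ∀ φ : A ⧸ J →ₐ[k] L, Unip W hW (toConv (φ.comp mk)) := fun φ => (hJ L _).1 fun a ha => by
      show φ (mk a) = 0
      rw [show mk a = 0 from Ideal.Quotient.eq_zero_iff_mem.2 ha, map_zero]
    rw [Ideal.isHopfIdeal_iff, Submodule.isCoideal_iff]
    refine ⟨⟨fun x hx => ?_, fun x hx => ?_⟩, fun x hx => ?_⟩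
    · have := (hJ L (1 : WithConv (A →ₐ[k] L))).2 (unip_one W hW) hx
      exact (map_eq_zero (algebraMap k L)).1 this
    · haveI : Algebra.FiniteType k ((A ⧸ J) ⊗[k] (A ⧸ J)) :=
        Algebra.FiniteType.trans (R := k) (S := A ⧸ J) (A := (A ⧸ J) ⊗[k] (A ⧸ J)) inferInstance inferInstance
      refine eq_zero_of_forall_points (k := k) L ((A ⧸ J) ⊗[k] (A ⧸ J)) (z := Algebra.TensorProduct.map mk mk (CoalgebraStruct.comul x)) fun φ => ?_
      have h := (hJ L _).2 (unip_mul W hW (hpt (φ.comp Algebra.TensorProduct.includeLeft))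
        (hpt (φ.comp Algebra.TensorProduct.includeRight))) hx
      rw [RingHom.mem_ker, AlgHom.convMul_apply] at h
      rw [← h]
      generalize CoalgebraStruct.comul (R := k) x = z
      induction z using TensorProduct.induction_on with
      | zero => simp
      | tmul a b => simp [← map_mul]
      | add a b ha hb => simp only [map_add, ha, hb]
    · refine Ideal.Quotient.eq_zero_iff_mem.1 (eq_zero_of_forall_points (k := k) L (A ⧸ J) (z := mk (HopfAlgebra.antipode k x)) fun φ => ?_)
      exact (hJ L (toConv ((φ.comp mk).comp (HopfAlgebra.antipodeAlgHom k A)))).2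
        (unip_of_mul_eq_one W hW (hpt φ) (by rw [mul_comm]; exact antipode_conv (φ.comp mk))) hx

end

end Groth.Agent.Lib.QuasiCompl6
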